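import Groth.Agent.L27.EtZar.Flasque
import Groth.Agent.L27.MV.SES
import Mathlib.Algebra.Homology.DerivedCategory.Ext.ExactSequences

/-! # Mayer-Vietoris for two opens covering an open -/

universe u

open CategoryTheory CategoryTheory.Limits AlgebraicGeometry Opposite CategoryTheory.Abelian

set_option backward.isDefEq.respectTransparency.types false
set_option linter.style.haveILetI false
set_option linter.unusedSectionVars false
set_option linter.unusedVariables false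

namespace Groth.L27.GabberH1

variable {X : Scheme.{u}}

theorem freeMap_comp {A B C : X.Etale} (m : A ⟶ B) (m' : B ⟶ C) :
    MV.freeMap (m ≫ m') = MV.freeMap m ≫ MV.freeMap m' := by
  refine (Colim.homEquiv A _).injective ?_
  rw [MV.homEquiv_freeMap_comp, MV.freeMap, MV.freeMap, AddEquiv.apply_symm_apply, AddEquiv.apply_symm_apply,
    ← Functor.map_comp_apply, ← op_comp]

theorem homEquiv_freeMap {A B : X.Etale} (m : A ⟶ B) {F : EtCoh.Ab X} (φ : Colim.freeSh B ⟶ F) :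
    Colim.homEquiv A F (MV.freeMap m ≫ φ) = F.obj.map m.op (Colim.homEquiv B F φ) :=
  MV.homEquiv_freeMap_comp m φ

variable {U V W : X.Opens} (hU : U ≤ W) (hV : V ≤ W)

theorem exists_glue (hUV : W ≤ U ⊔ V) (F : EtCoh.Ab X) (a : F.obj.obj (op (MV.oE U))) (b : F.obj.obj (op (MV.oE V)))
    (h : F.obj.map (MV.oHom (inf_le_left : U ⊓ V ≤ U)).op a = F.obj.map (MV.oHom (inf_le_right : U ⊓ V ≤ V)).op b) :
    ∃! t : F.obj.obj (op (MV.oE W)), F.obj.map (MV.oHom hU).op t = a ∧ F.obj.map (MV.oHom hV).op t = b := by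
  let Z : Bool → X.Etale := fun i => Bool.rec (MV.oE V) (MV.oE U) i
  let π : ∀ i, Z i ⟶ MV.oE W := fun i => match i with | false => MV.oHom hV | true => MV.oHom hU
  have hcov : Sieve.generate (Presieve.ofArrows Z π) ∈ X.smallEtaleTopology (MV.oE W) := by
    refine (EtSite.mem_topology_iff _).2 fun x => ?_
    rcases (show W.ι x ∈ U ⊔ V from hUV (EtFlasque.exists_mem_oE x)) with hx | hx
    · refine ⟨MV.oE U, π true, ⟨_, hx⟩, Sieve.le_generate _ _ _ (Presieve.ofArrows.mk true),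
        W.ι.isOpenEmbedding.injective ?_⟩
      exact (Scheme.Hom.comp_apply _ _ _).symm.trans congr($(X.homOfLE_ι hU) ⟨_, hx⟩)
    · refine ⟨MV.oE V, π false, ⟨_, hx⟩, Sieve.le_generate _ _ _ (Presieve.ofArrows.mk false),
        W.ι.isOpenEmbedding.injective ?_⟩
      exact (Scheme.Hom.comp_apply _ _ _).symm.trans congr($(X.homOfLE_ι hV) ⟨_, hx⟩)
  have hs : Presieve.IsSheafFor (F.obj ⋙ forget AddCommGrpCat.{u + 1}) (Presieve.ofArrows Z π) :=
    (Presieve.isSheafFor_iff_generate _).2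
      ((isSheaf_iff_isSheaf_of_type _ _).1 (Presheaf.isSheaf_comp_of_isSheaf _ _ _ F.property) _ hcov)
  have hmix : ∀ {T : X.Etale} (g : T ⟶ MV.oE U) (g' : T ⟶ MV.oE V), F.obj.map g.op a = F.obj.map g'.op b := by
    intro T g g'
    let l : T ⟶ MV.oE (U ⊓ V) := MV.oLift T fun t => by
      have h1 : T.hom t ∈ Set.range U.ι := ⟨g.left t, congr($(MorphismProperty.Over.w g) t)⟩
      have h2 : T.hom t ∈ Set.range V.ι := ⟨g'.left t, congr($(MorphismProperty.Over.w g') t)⟩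
      rw [Scheme.Opens.range_ι] at h1 h2
      exact ⟨h1, h2⟩
    rw [MV.hom_oE_subsingleton g (l ≫ MV.oHom inf_le_left), MV.hom_oE_subsingleton g' (l ≫ MV.oHom inf_le_right)]
    exact (Functor.map_comp_apply F.obj _ _ a).trans ((congrArg (F.obj.map l.op) h).trans
      (Functor.map_comp_apply F.obj _ _ b).symm)
  let x : ∀ i, (F.obj ⋙ forget AddCommGrpCat.{u + 1}).obj (op (Z i)) := fun i => Bool.rec b a i
  obtain ⟨t, ht, htu⟩ := (Presieve.isSheafFor_arrows_iff _ _).1 hs x (fun i k T g g' _ => by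
    rcases i with _ | _ <;> rcases k with _ | _
    · exact congrArg (fun l : T ⟶ MV.oE V => F.obj.map l.op b) (MV.hom_oE_subsingleton g g')
    · exact (hmix g' g).symm
    · exact hmix g g'
    · exact congrArg (fun l : T ⟶ MV.oE U => F.obj.map l.op a) (MV.hom_oE_subsingleton g g'))
  refine ⟨t, ⟨ht true, ht false⟩, fun t' ht' => htu t' fun i => ?_⟩
  rcases i with _ | _
  · exact ht'.2
  · exact ht'.1

/-- The short complex of a covering of an open by two opens. -/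
noncomputable def mvE : ShortComplex (EtCoh.Ab X) :=
  ShortComplex.mk
    (biprod.lift (MV.freeMap (MV.oHom (inf_le_left : U ⊓ V ≤ U)))
      (-(MV.freeMap (MV.oHom (inf_le_right : U ⊓ V ≤ V)))))
    (biprod.desc (MV.freeMap (MV.oHom hU)) (MV.freeMap (MV.oHom hV))) (by
      rw [biprod.lift_desc, Preadditive.neg_comp, ← sub_eq_add_neg, sub_eq_zero, ← freeMap_comp, ← freeMap_comp,
        MV.hom_oE_subsingleton (MV.oHom inf_le_left ≫ MV.oHom hU) (MV.oHom inf_le_right ≫ MV.oHom hV)])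

theorem shortExact_mvE (hUV : W ≤ U ⊔ V) : (mvE hU hV).ShortExact := by
  have hsub : ∀ {F : EtCoh.Ab X} (φ φ' : Colim.freeSh (MV.oE W) ⟶ F),
      MV.freeMap (MV.oHom hU) ≫ φ = MV.freeMap (MV.oHom hU) ≫ φ' →
      MV.freeMap (MV.oHom hV) ≫ φ = MV.freeMap (MV.oHom hV) ≫ φ' → φ = φ' := by
    intro F φ φ' h1 h2
    refine (Colim.homEquiv (MV.oE W) F).injective ?_
    have e1 := congrArg (Colim.homEquiv (MV.oE U) F) h1
    have e2 := congrArg (Colim.homEquiv (MV.oE V) F) h2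
    rw [homEquiv_freeMap, homEquiv_freeMap] at e1 e2
    refine (exists_glue hU hV hUV F _ _ ?_).unique ⟨e1, e2⟩ ⟨rfl, rfl⟩
    rw [← Functor.map_comp_apply, ← Functor.map_comp_apply, ← op_comp, ← op_comp,
      MV.hom_oE_subsingleton (MV.oHom inf_le_left ≫ MV.oHom hU) (MV.oHom inf_le_right ≫ MV.oHom hV)]
  haveI hepi : Epi (mvE hU hV).g := ⟨fun φ φ' h => hsub φ φ'
    (by simpa [mvE] using congrArg (fun z => biprod.inl ≫ z) h)
    (by simpa [mvE] using congrArg (fun z => biprod.inr ≫ z) h)⟩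
  haveI : Mono (mvE hU hV).f := by
    haveI : Mono (MV.oHom (inf_le_right : U ⊓ V ≤ V)) := ⟨fun a b _ => MV.hom_oE_subsingleton a b⟩
    haveI := MV.mono_freeMap (MV.oHom (inf_le_right : U ⊓ V ≤ V))
    haveI : Mono ((mvE hU hV).f ≫ biprod.snd) := by
      have e : (mvE hU hV).f ≫ biprod.snd = -(MV.freeMap (MV.oHom (inf_le_right : U ⊓ V ≤ V))) := biprod.lift_snd _ _
      rw [e]
      exact ⟨fun a b h => (cancel_mono (MV.freeMap (MV.oHom (inf_le_right : U ⊓ V ≤ V)))).1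
        (neg_injective (by rw [← Preadditive.comp_neg, ← Preadditive.comp_neg]; exact h))⟩
    exact mono_of_mono _ biprod.snd
  have key : ∀ {F : EtCoh.Ab X} (φ : Colim.freeSh (MV.oE U) ⊞ Colim.freeSh (MV.oE V) ⟶ F),
      biprod.lift (MV.freeMap (MV.oHom (inf_le_left : U ⊓ V ≤ U)))
        (-(MV.freeMap (MV.oHom (inf_le_right : U ⊓ V ≤ V)))) ≫ φ = 0 →
      ∃ ψ : Colim.freeSh (MV.oE W) ⟶ F, biprod.desc (MV.freeMap (MV.oHom hU)) (MV.freeMap (MV.oHom hV)) ≫ ψ = φ := by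
    intro F φ hφ
    have e : MV.freeMap (MV.oHom (inf_le_left : U ⊓ V ≤ U)) ≫ biprod.inl ≫ φ =
        MV.freeMap (MV.oHom (inf_le_right : U ⊓ V ≤ V)) ≫ biprod.inr ≫ φ := by
      rw [← sub_eq_zero, ← hφ]
      simp [biprod.lift_eq, sub_eq_add_neg]
    have e' := congrArg (Colim.homEquiv (MV.oE (U ⊓ V)) F) e
    rw [homEquiv_freeMap, homEquiv_freeMap] at e'
    obtain ⟨t, ⟨ht1, ht2⟩, -⟩ := exists_glue hU hV hUV F _ _ e'
    refine ⟨(Colim.homEquiv _ F).symm t, ?_⟩
    refine biprod.hom_ext' _ _ ((Colim.homEquiv _ _).injective ?_) ((Colim.homEquiv _ _).injective ?_)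
    · rw [biprod.inl_desc_assoc, homEquiv_freeMap, AddEquiv.apply_symm_apply, ht1]
    · rw [biprod.inr_desc_assoc, homEquiv_freeMap, AddEquiv.apply_symm_apply, ht2]
  exact { exact := ShortComplex.exact_of_g_is_cokernel _ (CokernelCofork.IsColimit.ofπ' _ _ fun {F} φ hφ =>
    ⟨(key φ hφ).choose, (key φ hφ).choose_spec⟩) }

/-- Restriction of classes to a smaller open. -/
noncomputable def r {F : EtCoh.Ab X} {n : ℕ} {A B : X.Opens} (h : A ≤ B) (x : Ext (Colim.freeSh (MV.oE B)) F n) :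
    Ext (Colim.freeSh (MV.oE A)) F n :=
  (Ext.mk₀ (MV.freeMap (MV.oHom h))).comp x (zero_add n)

theorem r_r {F : EtCoh.Ab X} {n : ℕ} {A B C : X.Opens} (h : A ≤ B) (h' : B ≤ C)
    (x : Ext (Colim.freeSh (MV.oE C)) F n) : r h (r h' x) = r (h.trans h') x := by
  show Ext.comp _ (Ext.comp _ _ _) _ = Ext.comp _ _ _
  rw [Ext.mk₀_comp_mk₀_assoc, ← freeMap_comp, MV.hom_oE_subsingleton (MV.oHom h ≫ MV.oHom h') (MV.oHom (h.trans h'))]

theorem r_self {F : EtCoh.Ab X} {n : ℕ} {A : X.Opens} (h : A ≤ A) (x : Ext (Colim.freeSh (MV.oE A)) F n) :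
    r h x = x := by
  show Ext.comp _ _ _ = _
  have : MV.freeMap (MV.oHom h) = 𝟙 _ := (Colim.homEquiv _ _).injective (by
    rw [← Category.comp_id (MV.freeMap (MV.oHom h)), homEquiv_freeMap,
      MV.hom_oE_subsingleton (MV.oHom h) (𝟙 _), op_id, CategoryTheory.Functor.map_id, ConcreteCategory.id_apply])
  rw [this, Ext.mk₀_id_comp]

theorem r_zero {F : EtCoh.Ab X} {n : ℕ} {A B : X.Opens} (h : A ≤ B) :
    r h (0 : Ext (Colim.freeSh (MV.oE B)) F n) = 0 :=
  Ext.comp_zero (Ext.mk₀ (MV.freeMap (MV.oHom h))) F n n (zero_add n)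

include hU hV in
/-- A class vanishing on both members comes from the overlap, so vanishes if the overlap is acyclic. -/
theorem eq_zero_of_restrict (hUV : W ≤ U ⊔ V) (F : EtCoh.Ab X) (n : ℕ)
    (hI : ∀ z : Ext (Colim.freeSh (MV.oE (U ⊓ V))) F n, z = 0)
    (x : Ext (Colim.freeSh (MV.oE W)) F (n + 1)) (hxU : r hU x = 0) (hxV : r hV x = 0) : x = 0 := by
  have hS := shortExact_mvE hU hV hUV
  have hg : (Ext.mk₀ (mvE hU hV).g).comp x (zero_add (n + 1)) = 0 := by
    show (Ext.mk₀ (biprod.desc (MV.freeMap (MV.oHom hU)) (MV.freeMap (MV.oHom hV)))).comp x (zero_add (n + 1)) = 0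
    refine Ext.biprod_ext ?_ ?_
    · rw [Ext.mk₀_comp_mk₀_assoc, Ext.comp_zero, biprod.inl_desc]
      exact hxU
    · rw [Ext.mk₀_comp_mk₀_assoc, Ext.comp_zero, biprod.inr_desc]
      exact hxV
  obtain ⟨z, rfl⟩ := Ext.contravariant_sequence_exact₃ hS F x hg (add_comm 1 n)
  rw [show z = 0 from hI z, Ext.comp_zero]
  rfl

end Groth.L27.GabberH1
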