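import Groth.Agent.L27.GabberH1.MV
import Groth.Agent.L27.MV.Main
import Groth.Agent.L27.EtSite.Pull
import Groth.Agent.L27.StrictCover
import Mathlib.AlgebraicGeometry.AffineScheme

/-! # Vanishing of cohomology from injectivity in degree one over strictly henselian bases -/

universe u

open CategoryTheory CategoryTheory.Limits AlgebraicGeometry Opposite CategoryTheory.Abelian

set_option backward.isDefEq.respectTransparency.types false
set_option linter.style.haveILetI false
set_option linter.unusedSectionVars false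
set_option linter.unusedVariables false

namespace Groth.L27.GabberH1

variable {X : Scheme.{u}} (hS : ∀ x : X, EtCoh.IsStrictlyHenselianLocalRing (X.presheaf.stalk x))

include hS in
/-- Positive degree classes vanish Zariski locally. -/
theorem exists_killing (n : ℕ) : ∀ (F : EtCoh.Ab X) (W : X.Opens)
    (x : Ext (Colim.freeSh (MV.oE W)) F (n + 1)) (p : X), p ∈ W →
      ∃ (O : X.Opens) (hO : O ≤ W), p ∈ O ∧ r hO x = 0 := by
  induction n with
  | zero =>
    intro F W x p hp
    let E := ShortComplex.mk (Injective.ι F) (cokernel.π _) (cokernel.condition _)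
    have hE : E.ShortExact :=
      { exact := ShortComplex.exact_of_g_is_cokernel _ (cokernelIsCokernel _) }
    haveI : Injective E.X₂ := inferInstanceAs (Injective (Injective.under F))
    obtain ⟨y, rfl⟩ := Ext.covariant_sequence_exact₁ _ hE x (Ext.eq_zero_of_injective _) (zero_add 1)
    obtain ⟨φ, rfl⟩ := (Ext.mk₀_bijective _ _).2 y
    haveI : Epi E.g := hE.epi_g
    obtain ⟨O, hO, t, hpO, ht⟩ := EtFlasque.exists_local_lift hS E.g (Colim.homEquiv (MV.oE W) E.X₃ φ) hp
    refine ⟨O, hO, hpO, ?_⟩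
    have e : MV.freeMap (MV.oHom hO) ≫ φ = (Colim.homEquiv (MV.oE O) E.X₂).symm t ≫ E.g := by
      refine (Colim.homEquiv _ _).injective ?_
      rw [homEquiv_freeMap, Colim.homEquiv_comp, AddEquiv.apply_symm_apply, ht]
      rfl
    show Ext.comp _ (Ext.comp _ _ _) _ = 0
    rw [Ext.mk₀_comp_mk₀_assoc, e, ← Ext.mk₀_comp_mk₀_assoc, hE.comp_extClass, Ext.comp_zero]
  | succ n ih =>
    intro F W x p hp
    let E := ShortComplex.mk (Injective.ι F) (cokernel.π _) (cokernel.condition _)
    have hE : E.ShortExact :=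
      { exact := ShortComplex.exact_of_g_is_cokernel _ (cokernelIsCokernel _) }
    haveI : Injective E.X₂ := inferInstanceAs (Injective (Injective.under F))
    obtain ⟨y, rfl⟩ := Ext.covariant_sequence_exact₁ _ hE x (Ext.eq_zero_of_injective _) (rfl : n + 1 + 1 = n + 2)
    obtain ⟨O, hO, hpO, hy⟩ := ih E.X₃ W y p hp
    refine ⟨O, hO, hpO, ?_⟩
    show Ext.comp _ (Ext.comp _ _ _) _ = 0
    rw [← Ext.comp_assoc _ _ _ (zero_add (n + 1)) rfl (by omega),
      show (Ext.mk₀ (MV.freeMap (MV.oHom hO))).comp y _ = 0 from hy, Ext.zero_comp]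

theorem isIso_toConst_top (X : Scheme.{u}) : IsIso (MV.toConst (⊤ : X.Opens)) := by
  refine (isIso_iff_coyoneda_map_bijective _).2 fun F => ?_
  haveI : IsIso (MV.oTop (⊤ : X.Opens)) := by
    haveI : IsIso (MV.oTop (⊤ : X.Opens)).left := by
      have e : (MV.oTop (⊤ : X.Opens)).left = (⊤ : X.Opens).ι :=
        (Category.comp_id _).symm.trans (MorphismProperty.Over.w (MV.oTop (⊤ : X.Opens)))
      rw [e]
      exact inferInstanceAs (IsIso X.topIso.hom)
    refine ⟨MorphismProperty.Over.homMk (inv (MV.oTop (⊤ : X.Opens)).left) ?_, ?_, ?_⟩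
    · rw [IsIso.inv_comp_eq]
      exact (MorphismProperty.Over.w (MV.oTop (⊤ : X.Opens))).symm
    · exact MV.hom_oE_subsingleton _ _
    · exact (EtCore.topIsTerminal X).hom_ext _ _
  have h : (fun φ => Colim.homEquiv (MV.oE ⊤) F (MV.toConst (⊤ : X.Opens) ≫ φ)) =
      fun φ => F.obj.map (MV.oTop (⊤ : X.Opens)).op (LimCoh.secEq F (Ext.mk₀ φ)) :=
    funext fun φ => MV.homEquiv_toConst_comp _ φ
  refine (Function.Bijective.of_comp_iff' (Colim.homEquiv (MV.oE ⊤) F).bijective _).1 ?_
  show Function.Bijective fun φ => Colim.homEquiv (MV.oE ⊤) F (MV.toConst (⊤ : X.Opens) ≫ φ)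
  rw [h]
  exact ((ConcreteCategory.bijective_of_isIso (F.obj.map (MV.oTop (⊤ : X.Opens)).op)).comp
    ((LimCoh.secEq F).bijective.comp (Ext.mk₀_bijective _ _)))

section Spec

variable {R : Type u} [CommRing R]

theorem stalk_strictlyHenselian
    (hR : ∀ p : PrimeSpectrum R, EtCoh.IsStrictlyHenselianLocalRing (Localization.AtPrime p.asIdeal))
    (x : (Spec (CommRingCat.of R))) : EtCoh.IsStrictlyHenselianLocalRing ((Spec (CommRingCat.of R)).presheaf.stalk x) :=
  StrictCover.strictlyHenselian_of_ringEquiv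
    (StructureSheaf.stalkIso (CommRingCat.of R) x).toRingEquiv (hR x)

variable (hR : ∀ p : PrimeSpectrum R, EtCoh.IsStrictlyHenselianLocalRing (Localization.AtPrime p.asIdeal))
  (F : EtCoh.Ab (Spec (CommRingCat.of R)))
  (hker : ∀ (f g : Γ((Spec (CommRingCat.of R)), ⊤)) (x : Ext (Colim.freeSh (MV.oE (((Spec (CommRingCat.of R))).basicOpen (f + g)))) F 1),
    r ((((Spec (CommRingCat.of R))).basicOpen_mul f (f + g)).trans_le inf_le_right) x = 0 →
    r ((((Spec (CommRingCat.of R))).basicOpen_mul g (f + g)).trans_le inf_le_right) x = 0 → x = 0)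

theorem le_sup_mul (f g : Γ((Spec (CommRingCat.of R)), ⊤)) :
    ((Spec (CommRingCat.of R))).basicOpen (f + g) ≤ ((Spec (CommRingCat.of R))).basicOpen (f * (f + g)) ⊔ ((Spec (CommRingCat.of R))).basicOpen (g * (f + g)) := by
  rw [Scheme.basicOpen_mul, Scheme.basicOpen_mul, ← inf_sup_right]
  exact le_inf (((Spec (CommRingCat.of R))).basicOpen_add_le f g) le_rfl

include hR hker in
theorem ext_eq_zero (n : ℕ) : ∀ (h : Γ((Spec (CommRingCat.of R)), ⊤)) (x : Ext (Colim.freeSh (MV.oE (((Spec (CommRingCat.of R))).basicOpen h))) F (n + 1)),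
    x = 0 := by
  induction n using Nat.strong_induction_on with
  | _ n ih =>
  have inj : ∀ (f g : Γ((Spec (CommRingCat.of R)), ⊤)) (x : Ext (Colim.freeSh (MV.oE (((Spec (CommRingCat.of R))).basicOpen (f + g)))) F (n + 1)),
      r ((((Spec (CommRingCat.of R))).basicOpen_mul f (f + g)).trans_le inf_le_right) x = 0 →
      r ((((Spec (CommRingCat.of R))).basicOpen_mul g (f + g)).trans_le inf_le_right) x = 0 → x = 0 := by
    obtain _ | m := n
    · exact hker
    · intro f g x hf hg
      refine eq_zero_of_restrict _ _ (le_sup_mul f g) F (m + 1) ?_ x hf hg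
      rw [← Scheme.basicOpen_mul]
      exact ih m (Nat.lt_succ_self m) _
  intro h x
  let P : ((Spec (CommRingCat.of R))).Opens → Prop := fun O => ∀ hO : O ≤ ((Spec (CommRingCat.of R))).basicOpen h, r hO x = 0
  have hmono : ∀ {O O' : ((Spec (CommRingCat.of R))).Opens}, O ≤ O' → O' ≤ ((Spec (CommRingCat.of R))).basicOpen h → P O' → P O := fun {O O'} h₁ h₂ hP hO => by
    rw [← r_r h₁ h₂, hP h₂, r_zero]
  have hle : ∀ a : Γ((Spec (CommRingCat.of R)), ⊤), ((Spec (CommRingCat.of R))).basicOpen (h * a) ≤ ((Spec (CommRingCat.of R))).basicOpen h := fun a => by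
    rw [Scheme.basicOpen_mul]
    exact inf_le_left
  let J : Ideal Γ((Spec (CommRingCat.of R)), ⊤) :=
    { carrier := {a | P (((Spec (CommRingCat.of R))).basicOpen (h * a))}
      zero_mem' := by
        show P _
        rw [mul_zero, Scheme.basicOpen_zero]
        intro hO
        haveI : IsEmpty (MV.oE (⊥ : ((Spec (CommRingCat.of R))).Opens)).left := ⟨fun y => (y : (⊥ : ((Spec (CommRingCat.of R))).Opens)).2⟩
        have hz : IsZero (Colim.freeSh (MV.oE (⊥ : ((Spec (CommRingCat.of R))).Opens))) := by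
          refine (IsZero.iff_id_eq_zero _).2 ((Colim.homEquiv _ _).injective ?_)
          exact EtSite.ext_of_locally (Colim.freeSh (MV.oE (⊥ : ((Spec (CommRingCat.of R))).Opens))) fun y => isEmptyElim y
        show Ext.comp _ _ _ = 0
        rw [hz.eq_of_src (MV.freeMap (MV.oHom hO)) 0, Ext.mk₀_zero, Ext.zero_comp]
      add_mem' := fun {a b} ha hb => by
        show P _
        rw [mul_add]
        intro hO
        refine inj (h * a) (h * b) _ ?_ ?_
        · rw [r_r]
          exact hmono ((((Spec (CommRingCat.of R))).basicOpen_mul _ _).trans_le inf_le_left) (hle a) ha _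
        · rw [r_r]
          exact hmono ((((Spec (CommRingCat.of R))).basicOpen_mul _ _).trans_le inf_le_left) (hle b) hb _
      smul_mem' := fun c a ha => by
        refine hmono ?_ (hle a) ha
        rw [smul_eq_mul, mul_left_comm, Scheme.basicOpen_mul]
        exact inf_le_right }
  let e : R →+* Γ((Spec (CommRingCat.of R)), ⊤) := (Scheme.ΓSpecIso (CommRingCat.of R)).inv.hom
  let h₀ : R := (Scheme.ΓSpecIso (CommRingCat.of R)).hom h
  have hb : ∀ (a : Γ((Spec (CommRingCat.of R)), ⊤)) (q : PrimeSpectrum R),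
      q ∈ ((Spec (CommRingCat.of R))).basicOpen a ↔ (Scheme.ΓSpecIso (CommRingCat.of R)).hom a ∉ q.asIdeal := fun a q => by
    rw [basicOpen_eq_of_affine']
    exact Iff.rfl
  have hrad : h₀ ∈ (J.comap e).radical := by
    rw [Ideal.radical_eq_sInf, Ideal.mem_sInf]
    rintro P' ⟨hJP, hP'⟩
    by_contra hh
    let q : PrimeSpectrum R := ⟨P', hP'⟩
    have hq : q ∈ ((Spec (CommRingCat.of R))).basicOpen h := (hb h q).2 hh
    obtain ⟨O, hO, hqO, hxO⟩ := exists_killing (stalk_strictlyHenselian hR) n F _ x q hq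
    obtain ⟨_, ⟨_, ⟨a, rfl⟩, rfl⟩, hqa, haO⟩ :=
      (isBasis_basicOpen (Spec (CommRingCat.of R))).exists_subset_of_mem_open hqO O.2
    have haJ : a ∈ J := fun h' => by
      have h₁ : ((Spec (CommRingCat.of R))).basicOpen (h * a) ≤ O := by
        rw [Scheme.basicOpen_mul]
        exact inf_le_right.trans haO
      rw [← r_r h₁ hO, hxO, r_zero]
    refine (hb a q).1 hqa (hJP ?_)
    show e _ ∈ J
    rwa [show e ((Scheme.ΓSpecIso (CommRingCat.of R)).hom a) = a from
      (Scheme.ΓSpecIso (CommRingCat.of R)).hom_inv_id_apply a]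
  obtain ⟨k, hk⟩ := hrad
  have hk' : h ^ k ∈ J := by
    have : e (h₀ ^ k) ∈ J := hk
    rwa [map_pow, show e h₀ = h from (Scheme.ΓSpecIso (CommRingCat.of R)).hom_inv_id_apply h] at this
  have hPh : P (((Spec (CommRingCat.of R))).basicOpen h) := by
    refine hmono ?_ (hle _) hk'
    rw [← pow_succ', Scheme.basicOpen_pow _ _ k.succ_pos]
  have := hPh le_rfl
  rwa [r_self] at this

end Spec

end Groth.L27.GabberH1
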